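import Cfsg.Agent.Lib.M4.Sub
import Cfsg.Agent.S3227
import Cfsg.Agent.S1700
import Cfsg.Agent.S2057
import Cfsg.Agent.S2083

/-! # The Thompson group inside the Monster -/

set_option autoImplicit false

namespace Cfsg.Lib.M4

open Subgroup Function Griess

theorem isoTh_of_type {G : Type*} [Group G] [Finite G] (h : IsOfThompsonType G) : Spor.IsoTh G := by
  obtain ⟨z, Q, _, h, ⟨e⟩⟩ := h
  obtain ⟨rfl, h1, h2⟩ := of_setting h
  exact (Agent.S3227.result z h.1 h2 h.2.2.1 h.2.2.2.1 h1 e).2.2.2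

theorem exists_Th : ∃ (b : M1) (s : Spor.Th →* M1), Injective s ∧ orderOf b = 3 ∧ s.range ≤ centralizer {b} ∧
    Nat.card (centralizer ({b} : Set M1)) = 272237831663616000 ∧ ∃ d, orderOf d = 2 ∧ s.range ≤ centralizer {d} := by
  obtain ⟨b, c, o, hc, _, h⟩ := exists_three xdM card_QM fuse_mem (isConj_iff.2 ⟨_, rfl⟩) fuse_ne
  obtain ⟨e⟩ := isoTh_of_type h
  have := Agent.S1700.result.1
  have hp : commutator Spor.Th = ⊤ := perfect_of_card (by rw [Agent.S1700.result.2]; norm_num)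
  obtain ⟨s, hs, h1, h2⟩ := exists_sec Agent.S2057.result hp e
  refine ⟨b, s, hs, o, ?_, ?_, exists_inv hp Agent.S2083.result (fun k => ?_) hc hs h1 h2⟩
  · rintro _ ⟨f, rfl⟩
    exact Core.centralizer_zpowers b ▸ h1 f
  · rw [← Core.centralizer_zpowers, card_eq_card_quotient_mul_card_subgroup ((zpowers b).subgroupOf _),
      Nat.card_congr e.toEquiv, Agent.S1700.result.2, Nat.card_congr (subgroupOfEquivOfLe (le_centralizer _)).toEquiv,
      Nat.card_zpowers, o]
  · exact absurd (o ▸ orderOf_dvd_of_pow_eq_one ((sq b).trans (eq_inv_iff_mul_eq_one.1 k.symm))) (by norm_num)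

end Cfsg.Lib.M4
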