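import Cfsg.Agent.Lib.Calc.Iso2

/-! # A simple group from an involution centralizer `2.S.2` with outer fusion -/

set_option autoImplicit false

namespace Cfsg.Lib.M4

open Subgroup Function
open scoped commutatorElement

section
variable {X S : Type*} [Group X] [Group S] [IsSimpleGroup S] {M : Subgroup X} {t : X} {φ : M →* S} {s : M}
  (hs : Surjective φ) (hk : ∀ m, φ m = 1 ↔ (m : X) = 1 ∨ (m : X) = t) (h2 : (s : X) * s = t) (hz : t ∈ center X)
  (ht : t * t = 1)
include hs hk h2 hz ht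

theorem cov_normal (N : Subgroup M) [hN : N.Normal] : N ≤ φ.ker ∨ N = ⊤ := by
  refine ((hN.map φ hs).eq_bot_or_eq_top).imp (Subgroup.map_eq_bot_iff _).1 fun h => ?_
  have h1 : ∀ x : M, ∃ n ∈ N, (x : X) = n ∨ (x : X) = n * t := fun x => by
    obtain ⟨n, hn, e⟩ := h.ge (mem_top (φ x))
    exact ⟨n, hn, ((hk (n⁻¹ * x)).1 (by rw [map_mul, map_inv, e, inv_mul_cancel])).imp
      (fun e => (inv_mul_eq_one.1 e).symm) inv_mul_eq_iff_eq_mul.1⟩
  have h3 : s * s ∈ N := by
    obtain ⟨n, hn, e⟩ := h1 s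
    rw [show s * s = n * n from Subtype.ext (by
      rcases e with e | e <;> simp only [coe_mul, e]
      rw [mul_assoc, ← mul_assoc t, ← mem_center_iff.1 hz, mul_assoc, ht, mul_one])]
    exact mul_mem hn hn
  refine eq_top_iff.2 fun x _ => ?_
  obtain ⟨n, hn, e | e⟩ := h1 x
  · exact (show x = n from Subtype.ext e) ▸ hn
  · exact (show x = n * (s * s) from Subtype.ext (by rw [e, ← h2]; rfl)) ▸ mul_mem hn h3

theorem cov_perfect (hS : center S = ⊥) : commutator M = ⊤ :=
  (cov_normal hs hk h2 hz ht _).resolve_left fun h => bot_ne_top (α := Subgroup S) (hS ▸ eq_top_iff.2 fun u _ =>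
    mem_center_iff.2 fun v => by
      obtain ⟨u, rfl⟩ := hs u
      obtain ⟨v, rfl⟩ := hs v
      exact commutatorElement_eq_one_iff_mul_comm.1
        (map_commutatorElement φ v u ▸ h (commutator_mem_commutator (mem_top v) (mem_top u))))

theorem cov_cases [M.Normal] (hS : center S = ⊥) (hc : centralizer (M : Set X) ≤ M) (N : Subgroup X) [N.Normal] :
    (∀ n ∈ N, n ∈ M ∧ (n = 1 ∨ n = t)) ∨ M ≤ N := by
  refine (cov_normal hs hk h2 hz ht (N.subgroupOf M)).imp (fun h => ?_) subgroupOf_eq_top.1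
  have h1 : ∀ n ∈ N, n ∈ M → n = 1 ∨ n = t := fun n hn hm => (hk ⟨n, hm⟩).1 (h hn)
  have h3 : ⁅⁅N, M⁆, M⁆ = ⊥ := commutator_eq_bot_iff_le_centralizer.2 fun n hn m _ => by
    rcases h1 n (commutator_le_left N M hn) (commutator_le_right N M hn) with rfl | rfl
    exacts [by simp, mem_center_iff.1 hz m]
  have h4 := commutator_commutator_eq_bot_of_rotate (H₁ := M) (H₂ := M) (H₃ := N) (commutator_comm N M ▸ h3) h3
  have h5 : ⁅M, M⁆ = M := by
    simpa [commutator_def, map_commutator, ← MonoidHom.range_eq_map] using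
      congrArg (map M.subtype) (cov_perfect hs hk h2 hz ht hS)
  rw [h5, commutator_comm, commutator_eq_bot_iff_le_centralizer] at h4
  exact fun n hn => ⟨hc (h4 hn), h1 n hn (hc (h4 hn))⟩

end

theorem inverts_of_fix {G : Type*} [Group G] [Finite G] {K : Subgroup G} {t : G} (ht : t * t = 1)
    (hn : t ∈ normalizer (K : Set G)) (h : ∀ k ∈ K, t * k * t⁻¹ = k → k = 1) {k : G} (hk : k ∈ K) :
    t * k * t⁻¹ = k⁻¹ := by
  let φ : K →* K := (K.normalizerMonoidHom ⟨t, hn⟩).toMonoidHom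
  have hφ : ∀ x : K, (φ x : G) = t * x * t⁻¹ := fun x => rfl
  have h1 : MonoidHom.FixedPointFree φ := fun x hx => Subtype.ext (h x x.2 (by rw [← hφ, hx]))
  have h2 : Involutive φ := fun x => Subtype.ext (by
    rw [hφ, hφ, show t * (t * x * t⁻¹) * t⁻¹ = (t * t) * x * (t * t)⁻¹ by group, ht]; simp)
  exact (hφ ⟨k, hk⟩).symm.trans (congrArg Subtype.val (congrFun (h1.coe_eq_inv_of_involutive h2) ⟨k, hk⟩))

theorem exists_simple {G S : Type*} [Group G] [Finite G] [Group S] [Finite S] [IsSimpleGroup S] (hS : center S = ⊥)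
    {t : G} (ht : orderOf t = 2) {M : Subgroup (centralizer ({t} : Set G))} (hM : M.index = 2)
    (hc : centralizer (M : Set (centralizer ({t} : Set G))) ≤ M) {φ : M →* S} (hs : Surjective φ)
    (hk : ∀ m, φ m = 1 ↔ (m : G) = 1 ∨ (m : G) = t) {s : M} (h2 : (s : G) * s = t) {h : G}
    (h3 : h * t * h⁻¹ ∈ centralizer {t}) (h4 : ⟨_, h3⟩ ∉ M) :
    ∃ (L : Subgroup G) (_ : IsSimpleGroup L) (u : L) (N : Subgroup (centralizer ({u} : Set L))),
      centralizer {t} ≤ L ∧ orderOf u = 2 ∧ N.Normal ∧ N.index = 2 ∧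
      centralizer (N : Set (centralizer ({u} : Set L))) ≤ N ∧ IsNonsplitDoubleCover N S := by
  have := normal_of_index_eq_two hM
  have t2 : t * t = 1 := by rw [← sq, ← ht, pow_orderOf_eq_one]
  have t1 : t ≠ 1 := fun e => by simp [e] at ht
  have tc : t ∈ centralizer {t} := mem_centralizer_singleton_iff.2 rfl
  have hz : (⟨t, tc⟩ : centralizer {t}) ∈ center _ :=
    mem_center_iff.2 fun g => Subtype.ext (mem_centralizer_singleton_iff.1 g.2)
  have hk' : ∀ m, φ m = 1 ↔ (m : centralizer {t}) = 1 ∨ (m : centralizer {t}) = ⟨t, tc⟩ := by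
    simpa only [Subtype.ext_iff, coe_one] using hk
  have tM : ⟨t, tc⟩ ∈ M := hc fun m _ => mem_center_iff.1 hz m
  have hN : ∀ N : Subgroup G, (∀ c ∈ centralizer {t}, ∀ n ∈ N, c * n * c⁻¹ ∈ N) →
      (t ∉ N → ∀ n ∈ N, t * n * t⁻¹ = n → n = 1) ∧ ∀ n (hn : n ∈ centralizer {t}), n ∈ N → ⟨n, hn⟩ ∉ M →
        centralizer {t} ≤ N := fun N hN => by
    have : (N.subgroupOf (centralizer {t})).Normal := ⟨fun n hn c => hN c c.2 n hn⟩
    have h5 := cov_cases hs hk' (Subtype.ext h2) hz (Subtype.ext t2) hS hc (N.subgroupOf _)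
    refine ⟨fun h6 n hn e => ?_, fun n hn h6 h7 c hc => ?_⟩
    · rcases ((h5.resolve_right fun h => h6 (h tM)) ⟨n, mem_centralizer_singleton_iff.2
        (mul_inv_eq_iff_eq_mul.1 e).symm⟩ hn).2 with e | e
      exacts [congrArg Subtype.val e, absurd ((show n = t from congrArg Subtype.val e) ▸ hn) h6]
    · have h8 := h5.resolve_left fun h => h7 (h _ h6).1
      by_cases e : ⟨c, hc⟩ ∈ M
      exacts [h8 e, (N.mul_mem_cancel_right h6).1 (h8 ((mul_mem_iff_of_index_two hM).2 (iff_of_false e h7)))]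
  let L := normalClosure ({t} : Set G)
  have tL : t ∈ L := subset_normalClosure rfl
  have nL : ∀ g, ∀ x ∈ L, g * x * g⁻¹ ∈ L := fun g x hx => normalClosure_normal.conj_mem x hx g
  have hD : centralizer {t} ≤ L := (hN L fun c _ => nL c).2 _ h3 (nL h t tL) h4
  have hK : ∀ K : Subgroup G, (∀ c ∈ L, ∀ n ∈ K, c * n * c⁻¹ ∈ K) → ∀ g, ∀ c ∈ L, ∀ n ∈ K.comap (MulAut.conj g),
      c * n * c⁻¹ ∈ K.comap (MulAut.conj g).toMonoidHom := fun K hK g c hc n hn => by
    simpa [mul_assoc] using hK _ (nL g c hc) _ hn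
  have key : ∀ K : Subgroup G, (∀ c ∈ L, ∀ n ∈ K, c * n * c⁻¹ ∈ K) → t ∉ K → K = ⊥ := fun K h5 h6 => by
    have h7 := (hN K fun c hc => h5 c (hD hc)).1 h6
    have h8 := (hN _ fun c hc => hK K h5 h c (hD hc)).1 fun e => t1 (by
      simpa [mul_inv_eq_iff_eq_mul] using h7 _ e (mul_inv_eq_iff_eq_mul.2 (mem_centralizer_singleton_iff.1 h3).symm))
    have nm : ∀ c ∈ L, c ∈ normalizer (K : Set G) := fun c hc => mem_normalizer_fintype (h5 c hc)
    have i1 := fun k => inverts_of_fix t2 (nm t tL) h7 (k := k)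
    have i2 := fun k => inverts_of_fix (t := h * t * h⁻¹) (by rw [conj_mul, t2]; simp) (nm _ (hD h3))
      (fun k hk e => by
        have := h8 (h⁻¹ * k * h) (by simpa [mul_assoc] using hk) (by
          rw [show t * (h⁻¹ * k * h) * t⁻¹ = h⁻¹ * (h * t * h⁻¹ * k * (h * t * h⁻¹)⁻¹) * h by group, e])
        rwa [mul_eq_one_iff_eq_inv, mul_eq_left] at this) (k := k)
    have h9 := (hN (centralizer K) fun c hc n hn k hk => by
      have := hn _ (h5 _ (inv_mem (hD hc)) k hk)
      calc k * (c * n * c⁻¹) = c * (c⁻¹ * k * c⁻¹⁻¹ * n) * c⁻¹ := by group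
        _ = _ := by rw [this]; group).2 _ (mul_mem tc h3) (fun k hk => by
          have := i1 _ (inv_mem hk)
          rw [inv_inv, ← i2 k hk] at this
          conv_lhs => rw [← this]
          group) (fun e => h4 ((M.mul_mem_cancel_left tM).1 e)) tc
    exact eq_bot_iff.2 fun k hk => h7 k hk (by rw [← h9 k hk]; simp)
  have : Nontrivial L := ⟨⟨⟨t, tL⟩, 1, fun e => t1 (congrArg Subtype.val e)⟩⟩
  let f : centralizer ({⟨t, tL⟩} : Set L) ≃* centralizer ({t} : Set G) :=
    { toFun := fun x => ⟨x.1, mem_centralizer_singleton_iff.2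
        (congrArg Subtype.val (mem_centralizer_singleton_iff.1 x.2))⟩
      invFun := fun x => ⟨⟨x, hD x.2⟩, mem_centralizer_singleton_iff.2
        (Subtype.ext (mem_centralizer_singleton_iff.1 x.2))⟩
      map_mul' := fun _ _ => rfl }
  refine ⟨L, ⟨fun K hK' => ?_⟩, ⟨t, tL⟩, M.comap f, hD, (orderOf_coe _).symm.trans ht, inferInstance,
    (M.index_comap_of_surjective f.surjective).trans hM, fun x hx => hc fun m hm => ?_,
    Calc.isNonsplitDoubleCover_congr (H := M) ?_ (Calc.isNonsplitDoubleCover_of_hom φ hs ?_ hS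
      (cov_perfect hs hk' (Subtype.ext h2) hz (Subtype.ext t2) hS))⟩
  · have h5 : ∀ c ∈ L, ∀ n ∈ K.map L.subtype, c * n * c⁻¹ ∈ K.map L.subtype := by
      rintro c hc _ ⟨n, hn, rfl⟩
      exact ⟨_, hK'.conj_mem n hn ⟨c, hc⟩, rfl⟩
    by_cases e : K = ⊥
    · exact .inl e
    refine .inr (eq_top_iff.2 fun x _ => ?_)
    have h6 : L ≤ (K.map L.subtype).normalCore := normalClosure_le_normal (Set.singleton_subset_iff.2 fun g => by
      by_contra h6
      exact e ((map_eq_bot_iff_of_injective _ L.subtype_injective).1 (comap_injective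
        (MulAut.conj g).surjective ((key _ (hK _ h5 g) h6).trans
          ((MonoidHom.ker_eq_bot_iff _).2 (MulAut.conj g).injective).symm))))
    obtain ⟨y, hy, e⟩ := normalCore_le _ (h6 x.2)
    exact (show y = x from Subtype.ext e) ▸ hy
  · simpa using congrArg f (hx (f.symm m) (by simpa using hm))
  · exact ((f.subgroupMap _).trans (MulEquiv.subgroupCongr (map_comap_eq_self_of_surjective f.surjective M))).symm
  · rw [card_eq_card_quotient_mul_card_subgroup φ.ker, mul_comm,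
      Nat.card_congr (QuotientGroup.quotientKerEquivOfSurjective φ hs).toEquiv, show φ.ker = zpowers ⟨⟨t, tc⟩, tM⟩ from ?_,
      Nat.card_zpowers, ← orderOf_coe, ← orderOf_coe, ht]
    refine le_antisymm (fun m hm => ?_) (zpowers_le.2 ((hk _).2 (.inr rfl)))
    rcases (hk' m).1 hm with e | e
    exacts [(show m = 1 from Subtype.ext e) ▸ one_mem _, (show m = ⟨⟨t, tc⟩, tM⟩ from Subtype.ext e) ▸ mem_zpowers _]

end Cfsg.Lib.M4
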