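import Cfsg.Agent.Lib.M4.Walk
import Cfsg.Agent.Lib.M4.Cov
import Cfsg.Agent.Lib.F2.Chain2
import Cfsg.Agent.S1674
import Cfsg.Agent.S1701

/-! # The Harada–Norton group in the Monster -/

set_option autoImplicit false
set_option maxRecDepth 100000
set_option maxHeartbeats 2000000

namespace Cfsg.Lib.M4

open Griess M3 Subgroup MulAction Cfsg.Lib.Calc Cfsg.Lib.F2
open Spor hiding tau
open Leech hiding vW
open Cfsg.Lib.Golay (gPt gIdx)
open scoped Pointwise

/-- the involution of `Q` fixing `aT 9` -/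
def t9 : Q := qN 0xc5c301
noncomputable def v9 : leechLattice := lv 0x3e40404040404040444240423e424240404040403e404042
noncomputable def w9 : leechLattice := lv 0x424040404040403e3e40424240403e42404040404040403e

theorem vw9 : nm(v9) = 48 ∧ nm(w9) = 32 ∧ dt(v9, w9) = -16 := by
  rw [v9, w9, coe_lv (by decide +kernel), coe_lv (by decide +kernel)]
  decide +kernel

noncomputable def u9 : L2 := v9
noncomputable def r9 : L2 := w9

theorem hs9 : Nonempty (↥(stabilizer Co1 u9 ⊓ stabilizer Co1 r9) ≃* HS) := exists_hs vw9.1 vw9.2.1 vw9.2.2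

theorem code_v9 : code2 u9 = 0x6e11f6 := (code_lv (by decide +kernel)).trans (by decide +kernel)
theorem code_w9 : code2 r9 = 0xbd2cfe := (code_lv (by decide +kernel)).trans (by decide +kernel)
theorem piQ_t9 : piQ t9 = r9 := code2_injective (by rw [t9, code2_qN, code_w9]; decide +kernel)
theorem t9_sq : t9 * t9 = 1 := by rw [t9, ← qN_mul, ← qN_zero]; congr 1
theorem t9_ne : t9 ≠ 1 := fun h => absurd (qN_inj (by norm_num) (by norm_num) (h.trans qN_zero.symm)) (by norm_num)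
theorem zt9 : zQ * t9 = qN 0x1c5c301 := by rw [← qN_z, t9, ← qN_mul]; congr 1

theorem mem_K9 {s : CZ} (h : (s : Aut) • aT 9 = aT 9) : rhoC s ∈ KbT 9 := cert.mem_Kb (i := 9) h

attribute [local irreducible] gT El.g app mmul idM rhoC aT u9 r9 qN qV Griess.tau ax KbT cert

theorem mem_W9 {q : Q} : q ∈ WT 9 ↔ q = 1 ∨ q = t9 := by
  have h1 := orderOf_eq_prime ((sq _).trans t9_sq) t9_ne
  rw [← eq_of_le_of_card_ge (zpowers_le.2 (show t9 ∈ WT 9 from wf9 0 one_pos))
    ((card_WT 9).trans (by rw [Nat.card_zpowers, h1]; rfl)), mem_zpowers_iff_mem_range_orderOf, h1]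
  simp [Finset.range_add_one, or_comm]

theorem fix_t9 {c : Aut} (hc : c ∈ CZ) (h : c • aT 9 = aT 9) : c * qV t9 * c⁻¹ = qV t9 := by
  obtain ⟨y, h1, -⟩ := exists_conj hc t9
  rcases mem_W9.1 (mem_WT.2 (show qV y • aT 9 = _ by
    rw [← h1, mul_smul, mul_smul, inv_smul_eq_iff.2 h.symm, mem_WT.1 (mem_W9.2 (.inr rfl)), h])) with rfl | rfl
  · exact absurd (qV_injective (by simpa using h1)) t9_ne
  · exact h1

theorem K9_smul {g : Co1} (h : g ∈ KbT 9) : g • r9 = r9 ∧ (g • u9 = u9 ∨ g • u9 = u9 + r9) := by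
  have h1 : ∀ j, rhoC (gT 9 j).g • r9 = r9 ∧
      (rhoC (gT 9 j).g • u9 = u9 ∨ rhoC (gT 9 j).g • u9 = u9 + r9) := fun j => by
    simp only [← code2_injective.eq_iff, El.lrep (gT_fix 9 j).1 _, code2_add, code_v9, code_w9]
    cases j <;> decide +kernel
  have h2 := KbT_le (H := stabilizer Co1 r9 ⊓ stabilizer Co1 ({u9, u9 + r9} : Set L2))
    (fun j => ⟨(h1 j).1, mem_stabilizer_iff.2 <| by
      rw [Set.smul_set_insert, Set.smul_set_singleton, smul_add, (h1 j).1]
      rcases (h1 j).2 with e | e <;> rw [e]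
      rw [add_assoc, l2_add_self, add_zero, Set.pair_comm]⟩) h
  exact ⟨h2.1, h2.2.le (Set.smul_mem_smul_set (.inl rfl))⟩

theorem B_v9 : rhoC (gT 9 false).g • u9 = u9 + r9 := code2_injective (by
  rw [El.lrep (gT_fix 9 _).1, code2_add, code_v9, code_w9]; decide +kernel)

theorem vw_ne : u9 + r9 ≠ u9 := fun h => by
  have := congrArg code2 h
  rw [code2_add, code_v9, code_w9] at this
  exact absurd this (by decide)

theorem ker_P {y : L2} (h : y + rhoC (wg 9 [true]) • y + rhoC (wg 9 [false]) • y = 0) :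
    y = 0 ∨ code2 y = 0x1cc7ff := by
  have h0 : code2 0 = 0 := code_zero
  have h1 : mmul 24 0xc1ecb2db1b0a934a92813166d022fec4f654766ad89354bee7a18cbe35e00e9772396d3283cfd0b1d08aafed9eca9f76665c407adf7efc2e9641c3f8df93226593e6cedd10000000
      (idM 24 ^^^ (gT 9 true).C ^^^ (gT 9 false).C) = idM 24 ^^^ mmul 24 0x1cc7ff 1 := by decide +kernel
  have h2 := congrArg (app 24 · (code2 y)) h1
  simp only [app_mmul, app_xor_left, app_idM (code2_lt y), ← wv_one, ← wg_code, ← code2_add, h, h0, app_zero] at h2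
  have h5 := app_lt_of (d := 24) (e := 1) (C := 1) (by decide +kernel) (code2 y)
  generalize app 24 1 _ = n at h2 h5
  rw [eq_comm, Nat.xor_eq_zero_iff] at h2
  interval_cases n
  exacts [.inl (code2_injective (h2.trans ((app_zero ..).trans h0.symm))), .inr (h2.trans (by decide +kernel))]

theorem fix_of_comm {c : Co1} (h : ∀ j, rhoC (gT 9 j).g ∈ centralizer {c}) : c • u9 = u9 := by
  have h1 : ∀ L (x : L2), c • rhoC (wg 9 L) • x = rhoC (wg 9 L) • c • x := fun L x => by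
    rw [← mul_smul, ← mem_centralizer_singleton_iff.1 (wg_mem 9 L h), mul_smul]
  obtain ⟨x, hx⟩ := exists_code2 (c := 0x1cc7ff)
  have h2 : x + rhoC (wg 9 [true]) • x + rhoC (wg 9 [false]) • x = 0 := code2_injective (by
    simp only [code2_add, wg_code, hx, show code2 0 = 0 from code_zero]; decide +kernel)
  have h6 : c • x = x := by
    rcases ker_P (y := c • x) (by rw [← h1, ← h1, ← smul_add, ← smul_add, h2, smul_zero]) with e | e
    · rw [(smul_eq_zero_iff_eq c).1 e, smul_zero]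
    · exact code2_injective (e.trans hx.symm)
  have h7 : u9 = x + rhoC (wg 9 [true, true, true, true]) • x + rhoC (wg 9 [false, false, true, true, false,
      true, false, true, false, false, true, false, true]) • x := code2_injective (by
    rw [code2_add, code2_add, wg_code, wg_code, hx, code_v9]; decide +kernel)
  rw [h7, smul_add, smul_add, h1, h1, h6]

theorem mv_v9 : ((rhoC nd232.g)⁻¹ * mo 1 (cdN (nd231.al 0x1e26000)) * rhoC nd232.g) • u9 ≠ u9 := fun e => by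
  have hv : isL 0x403e404040403e3e4042403e423e40423e40403e4240403e = true := by decide +kernel
  have h1 : rhoC nd232.g • u9 = lv 0x403e404040403e3e4042403e423e40423e40403e4240403e := code2_injective (by
    rw [El.lrep (El.ok'_ok U77.o2), code_v9, code2_mk, code_lv hv]; decide +kernel)
  have h2 : nd231.al 0x1e26000 = 0x12cb360 := by decide +kernel
  rw [mul_smul, mul_smul, inv_smul_eq_iff, h1, h2] at e
  refine mo_ne (k := gPt 8) (l := gPt 0) ?_ (by decide +kernel) (by decide +kernel) ?_ ?_ e <;> rw [coe_lv hv] <;>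
    decide +kernel

theorem exists_h9 : Short (zQ * t9) ∧ ∃ h ∈ M1, h • aT 9 = aT 9 ∧ h • ax (zQ * t9) = ax (zQ * t9) ∧
    ∃ c : CZ, h * qV t9 * h⁻¹ = c ∧ rhoC c • u9 ≠ u9 := by
  obtain ⟨g, h1, h2, h3, h4⟩ := edge_ex (El.ok'_ok U77.o1) (El.ok'_ok U77.o2) U77.h1
  obtain ⟨h5, h6, h7⟩ := h3 0xf6000 0xc5c301 true false 8 14 (by decide +kernel)
  obtain ⟨h8, h9, h10⟩ := h3 0x10f6096 0x1c5c301 false true 8 14 (by decide +kernel)
  obtain ⟨c, h11, h12⟩ := h4 0x1e26000 (by decide +kernel)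
  obtain ⟨k, hk, e1, e2⟩ : ∃ k : CZ, (k : Aut) • aT 6 = aT 6 ∧ k * qV (qN 0xf6000) * (k : Aut)⁻¹ = qV (qN 0x1e26000) ∧
      k * qV (qN 0x10f6096) * (k : Aut)⁻¹ = qV (qN 0x10f6096) := by
    refine ⟨_, wg_fix 6 [false, false, true, true, false, true, true, true, false, false, true], ?_, ?_⟩ <;>
      exact (wg_conj ..).trans (congrArg (fun y => qV (qN y)) (by decide +kernel))
  rw [zt9]
  refine ⟨h9, g * k * g⁻¹, mul_mem (mul_mem h1 (CZ_le_M1 k.2)) (inv_mem h1), ?_, ?_, c, ?_, h12 ▸ mv_v9⟩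
  · rw [← h2, mul_smul, inv_smul_smul, mul_smul, hk]
  · rw [← h10, mul_smul, inv_smul_smul, mul_smul, smul_ax_of_conj k.2 e2]
  · rw [← h11, ← e1, t9, ← conj_of_smul_ax h5 h6 h7]; group

theorem exists_s9 : ∃ s : CZ, (s : Aut) • aT 9 = aT 9 ∧ rhoC s • u9 = u9 ∧ rhoC s * rhoC s = 1 ∧
    (s : Aut) * s ≠ 1 := by
  have h1 := wg_lrep 9 (List.replicate 10 [true, true, false]).flatten (LRep.one code2_lt)
  have h2 := wg_conj 9 (List.replicate 10 [true, true, false]).flatten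
  refine ⟨_, wg_fix 9 (List.replicate 10 [true, true, false]).flatten,
    code2_injective ((wg_code ..).trans (by rw [code_v9]; decide +kernel)),
    eq_of_smul_eq_smul fun x : L2 => code2_injective ?_, fun h => ?_⟩
  · have h3 : mmul 24 (wm 9 (List.replicate 10 [true, true, false]).flatten (idM 24))
      (wm 9 (List.replicate 10 [true, true, false]).flatten (idM 24)) = idM 24 := by decide +kernel
    rw [mul_one] at h1
    rw [h1.mul h1 x, h3, app_idM (code2_lt x), one_smul]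
  · have h3 : wal 9 (List.replicate 10 [true, true, false]).flatten
      (wal 9 (List.replicate 10 [true, true, false]).flatten 4) = 0x1000004 := by decide +kernel
    have h4 := h2 (wal 9 (List.replicate 10 [true, true, false]).flatten 4)
    rw [h3, ← h2 4, ← mul_assoc, ← mul_assoc, h, mul_assoc, ← mul_inv_rev, h] at h4
    exact absurd (qN_inj (x := 4) (y := 0x1000004) (by norm_num) (by norm_num) (qV_injective (by simpa using h4)))
      (by norm_num)

theorem isoHN_of {G : Type*} [Group G] [Finite G] {t h : G} (ht : orderOf t = 2) (ψ : centralizer ({t} : Set G) →* Co1)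
    (h1 : ψ.range = KbT 9) (hk : ∀ x, ψ x = 1 ↔ (x : G) = 1 ∨ (x : G) = t) {s : centralizer ({t} : Set G)}
    (s1 : ψ s • u9 = u9) (s2 : (s : G) * s = t) (h3 : h * t * h⁻¹ ∈ centralizer {t}) (h4 : ψ ⟨_, h3⟩ • u9 ≠ u9) :
    ∃ L : Subgroup G, centralizer {t} ≤ L ∧ IsoHN L := by
  obtain ⟨e⟩ := hs9
  have := simple_HS
  have := e.isSimpleGroup
  have hS := (Nat.card_congr e.toEquiv).trans card_HS
  have hK : ∀ x, _ := fun x => K9_smul (h1.le ⟨x, rfl⟩)
  have hg : ∀ j, ∃ x, ψ x = rhoC (gT 9 j).g := fun j => h1.ge (gT_mem 9 j)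
  let M := (stabilizer Co1 u9).comap ψ
  have hm : ∀ x, x ∈ M ↔ ψ x • u9 = u9 := fun _ => Iff.rfl
  have hM : M.index = 2 := let ⟨a, ha⟩ := hg false; index_eq_two_iff.2 ⟨a, fun b => by
    rw [hm, hm, map_mul, mul_smul, ha, B_v9, smul_add, (hK b).1]
    rcases (hK b).2 with h | h <;> rw [h]
    exacts [.inr ⟨rfl, vw_ne⟩, .inl ⟨by rw [add_assoc, l2_add_self, add_zero], vw_ne⟩]⟩
  let φ : M →* ↥(stabilizer Co1 u9 ⊓ stabilizer Co1 r9) :=
    (ψ.comp M.subtype).codRestrict _ fun m => ⟨m.2, (hK m).1⟩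
  have hs : Function.Surjective φ := fun y => by
    have h2 : 88704000 ≤ Nat.card ψ.range := h1 ▸ (frames_T 9).1
    rw [← card_mul_index ((stabilizer Co1 u9).subgroupOf _), show index _ = 2 from (index_comap _ _).symm.trans hM,
      ← inf_subgroupOf_right, Nat.card_congr (subgroupOfEquivOfLe inf_le_right).toEquiv] at h2
    obtain ⟨h3, x, h4⟩ := (eq_of_le_of_card_ge (H := stabilizer Co1 u9 ⊓ ψ.range)
      (inf_le_inf_left _ (by rintro _ ⟨x, rfl⟩; exact (hK x).1)) (by omega)).ge y.2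
    exact ⟨⟨x, show ψ x ∈ _ from h4 ▸ h3⟩, Subtype.ext h4⟩
  obtain ⟨L, _, u, N, h8, h9, _, h10, h11, h12⟩ := exists_simple (M := M)
    (center_eq_bot_of_simple (by rw [hS]; norm_num)) ht hM
    (fun x hx => by
      by_contra h
      refine h (fix_of_comm fun j => mem_centralizer_singleton_iff.2 ?_)
      obtain ⟨y, hy⟩ := hg j
      rw [← hy, ← map_mul, ← map_mul]
      by_cases e : y ∈ M
      · rw [hx y e]
      · rw [mul_right_cancel ((hx _ ((mul_mem_iff_of_index_two hM).2 (iff_of_false e h))).trans (mul_assoc ..).symm)])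
    hs (fun m => Subtype.ext_iff.trans (hk m)) (s := ⟨s, s1⟩) s2 h3 h4
  exact ⟨L, h8, Cfsg.Agent.S1674.result u h9 N h10 h11 (isNonsplitDoubleCover_congr_right e h12)⟩

/-- the centralizer of a dihedral group of order `10` -/
noncomputable def H9 : Subgroup M1 := centralizer {qM (zQ * t9)} ⊓ stabilizer M1 (aT 9)

theorem mem_H9 {c : CZ} (h : (c : Aut) • aT 9 = aT 9) : ⟨c, CZ_le_M1 c.2⟩ ∈ H9 :=
  ⟨mem_centralizer_singleton_iff.2 (Subtype.ext (show c * qV (zQ * t9) = qV (zQ * t9) * c by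
    rw [map_mul, ← mul_assoc, mem_CZc.1 c.2, mul_assoc, mul_assoc, ← mul_inv_eq_iff_eq_mul.1 (fix_t9 c.2 h)])), h⟩

noncomputable def tH : H9 := ⟨_, mem_H9 (c := ⟨qV t9, qV_mem _⟩) (mem_WT.1 (mem_W9.2 (.inr rfl)))⟩

theorem mem_D9 {x : H9} : x ∈ centralizer {tH} ↔ x.1.1 ∈ CZ := by
  have h1 : x.1.1 * (qV zQ * qV t9) = qV zQ * qV t9 * x.1.1 :=
    map_mul qV zQ t9 ▸ congrArg Subtype.val (mem_centralizer_singleton_iff.1 x.2.1)
  rw [mem_centralizer_singleton_iff, Subtype.ext_iff, Subtype.ext_iff]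
  refine ⟨fun h => mem_CZc.2 (mul_right_cancel (b := qV t9) ?_), fun h => mul_inv_eq_iff_eq_mul.1 (fix_t9 h x.2.2)⟩
  rw [mul_assoc, h1, mul_assoc, mul_assoc]
  exact congrArg _ h.symm

noncomputable def mkD (c : CZ) (h : (c : Aut) • aT 9 = aT 9) : centralizer {tH} := ⟨⟨_, mem_H9 h⟩, mem_D9.2 c.2⟩

noncomputable def psi : centralizer {tH} →* Co1 :=
  rhoC.comp ((M1.subtype.comp (H9.subtype.comp (Subgroup.subtype _))).codRestrict CZ fun x => mem_D9.1 x.2)

theorem psi_eq {x : centralizer {tH}} {c : CZ} (h : x.1.1.1 = c) : psi x = rhoC c := congrArg rhoC (Subtype.ext h)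

theorem H9_ext {x y : H9} : x = y ↔ x.1.1 = y.1.1 := Subtype.ext_iff.trans Subtype.ext_iff

theorem exists_psi (x : centralizer {tH}) : ∃ c : CZ, x.1.1.1 = c ∧ (c : Aut) • aT 9 = aT 9 ∧ psi x = rhoC c :=
  ⟨⟨_, mem_D9.1 x.2⟩, rfl, x.1.2.2, rfl⟩

attribute [irreducible] psi

theorem psi_eq_one (x : centralizer {tH}) : psi x = 1 ↔ (x : H9) = 1 ∨ (x : H9) = tH := by
  obtain ⟨c, h1, h2, h3⟩ := exists_psi x
  refine Iff.trans ?_ (or_congr H9_ext H9_ext).symm
  rw [h3, h1, rhoC_eq_one]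
  refine ⟨fun ⟨q, hq⟩ => ?_, fun h => h.elim (fun h => ⟨1, qV.map_one.trans h.symm⟩) fun h => ⟨t9, h.symm⟩⟩
  rcases mem_W9.1 (mem_WT.2 ((congrArg (· • aT 9) hq).trans h2)) with e | e <;> rw [e] at hq
  exacts [.inl (hq.symm.trans qV.map_one), .inr hq.symm]

theorem range_psi : psi.range = KbT 9 := by
  refine le_antisymm ?_ fun y hx => ?_
  · rintro _ ⟨x, rfl⟩
    obtain ⟨c, -, h2, h3⟩ := exists_psi x
    exact h3 ▸ mem_K9 h2
  · obtain ⟨s, h, e⟩ := lift_T 9 hx
    exact ⟨mkD s h, (psi_eq rfl).trans e⟩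

theorem exists_HN : ∃ L ≤ H9, IsoHN L ∧ ∀ g ∈ H9, g.1 ∈ CZ → g ∈ L := by
  obtain ⟨s, s1, s2, s3, s4⟩ := exists_s9
  obtain ⟨hd, h, h3, h4, h5, c, h6, h7⟩ := exists_h9
  have h8 : ⟨h, h3⟩ ∈ H9 := ⟨mem_centralizer_singleton_iff.2
    (Subtype.ext (mul_inv_eq_iff_eq_mul.1 (conj_of_smul_ax hd hd h5))), h4⟩
  have h9 : orderOf tH = 2 := by
    rw [← orderOf_coe, ← orderOf_coe]
    exact (orderOf_injective qV qV_injective t9).trans (orderOf_eq_prime ((sq _).trans t9_sq) t9_ne)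
  have h10 : psi (mkD s s1) = rhoC s := psi_eq rfl
  have h11 : (⟨_, h8⟩ * tH * ⟨_, h8⟩⁻¹ : H9) ∈ centralizer {tH} := mem_D9.2 (show h * qV t9 * h⁻¹ ∈ CZ from h6 ▸ c.2)
  have h12 : psi ⟨_, h11⟩ = rhoC c := psi_eq h6
  obtain ⟨L, hL, ⟨i⟩⟩ := isoHN_of h9 psi range_psi psi_eq_one (s := mkD s s1) (h10 ▸ s2)
    (((psi_eq_one (mkD s s1 * mkD s s1)).1 ((psi.map_mul ..).trans (h10 ▸ s3))).resolve_left fun h => s4 (H9_ext.1 h))
    h11 (h12 ▸ h7)
  exact ⟨L.map H9.subtype, map_subtype_le L, ⟨(equivMapOfInjective _ _ H9.subtype_injective).symm.trans i⟩,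
    fun g hg h => ⟨⟨g, hg⟩, hL (mem_D9.2 h), rfl⟩⟩

theorem ip_a9 : ip (aT 9) (qV (zQ * t9) • aT 9 : V) = 3 / 4 := by
  have h1 := ip_z (aT 9) (aT 9)
  have h2 : 2048 * (_ : ℝ) = (64000 : ℕ) := norm_aT 9
  rw [map_mul, mul_smul, mem_WT.1 (mem_W9.2 (.inr rfl))]
  rw [sa9.2.ip_self] at h1
  rw [grm, ← h1] at h2
  push_cast at h2
  linarith

theorem mv_a9 : qV (zQ * t9) • aT 9 ≠ aT 9 := fun h => by
  have := ip_a9
  rw [h, sa9.2.ip_self] at this
  norm_num at this

theorem exists_five : ∃ x : M1, orderOf x = 5 ∧ ∃ L ≤ centralizer {x}, IsoHN L := by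
  obtain ⟨L, h1, ⟨e⟩, h2⟩ := exists_HN
  obtain ⟨g, hg⟩ := ob_aT 9
  have hb : Ax (aT 9) (g * qM (qN 0xc74fff) * g⁻¹ : M1) := hg ▸ short_r0.ax.smul g
  generalize g * qM (qN 0xc74fff) * g⁻¹ = s at hb
  have ha : Ax _ (qM (zQ * t9)) := exists_h9.1.ax
  have hv : (qM (zQ * t9) : Aut) • aT 9 ≠ aT 9 := mv_a9
  have hi : B (aT 9) ((qM (zQ * t9) : Aut) • aT 9) = 3 / 4 := ip_a9
  have hH : ∀ x, x ∈ H9 ↔ Commute x (qM (zQ * t9)) ∧ Commute x s := fun x => and_congr mem_centralizer_singleton_iff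
    (hb.mem_centralizer.symm.trans (mem_centralizer_singleton_iff.trans (Subtype.ext_iff (a1 := x * s) (a2 := s * x)).symm))
  have ht := (hH _).1 tH.2
  have hz : ∀ x : M1, Commute x (qM (zQ * t9)) → Commute x tH → x.1 ∈ CZ := fun x h h' => mem_CZc.2
    (congrArg Subtype.val ((show qM (zQ * t9) * tH = qM zQ from
      (qM.map_mul ..).symm.trans (by rw [mul_assoc, t9_sq, mul_one])) ▸ h.mul_right h').eq)
  generalize qM (zQ * t9) = d at *
  generalize ax (zQ * t9) = a at *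
  have d2 : d * d = 1 := Subtype.ext ha.mul_self
  have s2 : s * s = 1 := Subtype.ext hb.mul_self
  refine ⟨s * d, ?_, L, fun x hx => mem_centralizer_singleton_iff.2
    (((hH x).1 (h1 hx)).2.mul_right ((hH x).1 (h1 hx)).1).eq, ⟨e⟩⟩
  have h3 : ∀ k, (s * d) ^ (2 * k) = 1 → (s * d) ^ k = 1 := fun k hk => by
    have h4 : Commute ((s * d) ^ k) d := by
      have : d * (s * d) * d⁻¹ = (s * d)⁻¹ := by
        rw [mul_inv_rev, inv_eq_of_mul_eq_one_right d2, inv_eq_of_mul_eq_one_right s2, mul_assoc, mul_assoc, d2, mul_one]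
      refine (mul_inv_eq_iff_eq_mul.1 ?_).symm
      rw [← conj_pow, this, inv_pow, inv_eq_iff_mul_eq_one, ← pow_add, ← two_mul, hk]
    have h5 := h2 _ ((hH _).2 ⟨h4, by
      simpa [mul_assoc, d2] using ((Commute.refl (s * d)).pow_left k).mul_right h4⟩)
      (hz _ h4 ((ht.2.mul_right ht.1).pow_right k).symm)
    have := Cfsg.Agent.S1701.result
    have := this.1
    have := e.isSimpleGroup
    exact congrArg Subtype.val (mem_bot.1 ((center_eq_bot_of_simple (K := L) (by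
      rw [Nat.card_congr e.toEquiv, ‹IsHN _›.2]; norm_num)).le (show ⟨_, h5⟩ ∈ _ from mem_center_iff.2 fun x =>
        Subtype.ext ((((hH _).1 (h1 x.2)).2.mul_right ((hH _).1 (h1 x.2)).1).pow_right k).eq)))
  have h4 : (s * d) ^ 3 ≠ 1 := fun h => by
    have h5 : s * d * s⁻¹ = d * s * d⁻¹ := by
      rw [inv_eq_of_mul_eq_one_right s2, eq_mul_inv_iff_mul_eq, ← mul_right_inj (s * d), ← mul_left_inj (s * d)]
      calc _ = (s * d) ^ 3 * (s * d) := by simp only [pow_succ, pow_zero, one_mul, mul_assoc]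
        _ = s * (d * d) * (s * s) * d := by rw [h, d2, s2]; simp
        _ = _ := by simp only [mul_assoc]
    have h6 := (ha.smul s).uniq ((show (s * d * (s : Aut)⁻¹ : Aut) = d * s * (d : Aut)⁻¹ from
      congrArg Subtype.val h5) ▸ hb.smul d)
    have h7 := ha.recur hb
    have h8 : B a (aT 9) = 3 / 4 := by rw [← B_smul s, h6, hb.fix, B_comm, hi]
    rw [h6, ha.smul_smul, hb.fix, ← ha.B_t, ha.fix, h8, ← h6, hb.smul_smul] at h7
    norm_num at h7
    rw [sub_eq_zero, h6] at h7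
    exact hv (by rw [← h7, ← ha.fix, h7, ha.smul_smul])
  have h5 : orderOf (s * d) ≤ 6 := (orderOf_coe _).symm.trans_le (ha.six hb)
  have h6 := pow_orderOf_eq_one (s * d)
  have h7 := orderOf_pos (s * d)
  generalize orderOf (s * d) = n at *
  interval_cases n
  · exact absurd (by rw [pow_one] at h6; rw [h6, one_pow]) h4
  · exact absurd (by have := h3 1 h6; rw [pow_one] at this; rw [this, one_pow]) h4
  · exact absurd h6 h4
  · exact absurd (by have := h3 1 (h3 2 h6); rw [pow_one] at this; rw [this, one_pow]) h4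
  · rfl
  · exact absurd (h3 3 h6) h4

end Cfsg.Lib.M4
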