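import Cfsg.Agent.Lib.M4.Spl
import Cfsg.Agent.Lib.M4.HN
import Cfsg.Agent.Lib.M3.W2
import Cfsg.Agent.Lib.MT.Simp

/-! # Simple subgroups of the Baby Monster -/

set_option autoImplicit false

namespace Cfsg.Lib.M4

open Subgroup Function Griess M3 Spor.Bimonster

theorem card_of_xd {G : Type*} [Group G] {z : G} {Q : Subgroup G} (D : ES.XD z Q Spor.Co1 Leech.L2)
    (h : Nat.card Q = 2 ^ (2 * 12 + 1)) : Nat.card (centralizer ({z} : Set G)) = 2 ^ 25 * 4157776806543360000 := by
  rw [← card_mul_index D.ρ.ker, index_ker, MonoidHom.range_eq_top.2 D.surj, card_top, Leech.card_Co1,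
    D.ker_eq, Nat.card_congr (subgroupOfEquivOfLe D.lg.cent).toEquiv, h]

theorem isConj_of_two {G : Type*} [Group G] {a b c x y : G} (ha : IsConj a x ∨ IsConj a y) (hb : IsConj b x ∨ IsConj b y)
    (hc : IsConj c x ∨ IsConj c y) (h1 : ¬ IsConj a b) (h2 : ¬ IsConj a c) : IsConj b c := by
  rcases ha with a | a <;> rcases hb with b | b <;> rcases hc with c | c <;>
    first | exact b.trans c.symm | exact (h1 (a.trans b.symm)).elim | exact (h2 (a.trans c.symm)).elim

theorem not_conj_z {d : M1} {p : ℕ} (h : p ∣ Nat.card (centralizer ({d} : Set M1)))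
    (hp : ¬ p ∣ 2 ^ 25 * 4157776806543360000) : ¬ IsConj (qM zQ) d := fun e => by
  obtain ⟨g, rfl⟩ := isConj_iff.1 e
  rw [← ES.map_conj_centralizer_singleton, card_map_of_injective (MulAut.conj g).injective,
    card_of_xd xdM card_QM] at h
  exact hp h

/-- An involution of the Monster not conjugate to `z` is a short element. -/
theorem conj_short {r : Q} (h : Short r) {d : M1} (o : orderOf d = 2) (hd : ¬ IsConj (qM zQ) d) : IsConj d (qM r) := by
  obtain ⟨x, y, -, -, -, k⟩ := MT.two_classes_of_xd xdM card_QM fuse_mem (isConj_iff.2 ⟨_, rfl⟩) fuse_ne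
  refine isConj_of_two (k _ xdM.lg.ord) (k _ o) (k _ (orderOf_qM h)) hd (not_conj_z (p := 47) ?_ (by norm_num))
  rw [card_HB h, (isB_of_short h).2]
  norm_num

variable {F : Type*} [Group F] [IsSimpleGroup F] (hF : ¬ (Nat.card F).Prime) {s : F →* M1} (hs : Injective s) {r : Q}
  (h : Short r)
include hF hs h

theorem exists_BB (hc : s.range ≤ HB r) : ∃ K : Subgroup (BB r), Nonempty (K ≃* F) := by
  refine ⟨_, ⟨(MonoidHom.ofInjective (f := (QuotientGroup.mk' (ZB r)).comp (s.codRestrict _ fun f => hc ⟨f, rfl⟩))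
    ((injective_iff_map_eq_one _).2 fun f e => ?_)).symm⟩⟩
  refine ((mk_eq_one h _).1 e).elim (map_eq_one_iff s hs).1 fun e => (Calc.center_eq_bot_of_simple hF).le ?_
  exact mem_center_iff.2 fun g => hs (by
    rw [map_mul, map_mul, show s f = _ from e]; exact mem_centralizer_singleton_iff.1 (hc ⟨g, rfl⟩))

theorem exists_BB' {d : M1} (o : orderOf d = 2) (hc : s.range ≤ centralizer {d}) {p : ℕ} (h1 : p ∣ Nat.card F)
    (hp : ¬ p ∣ 2 ^ 25 * 4157776806543360000) : ∃ K : Subgroup (BB r), Nonempty (K ≃* F) := by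
  obtain ⟨g, e⟩ := isConj_iff.1 (conj_short h o (not_conj_z (h1.trans
    ((Nat.card_congr (MonoidHom.ofInjective hs).toEquiv).dvd.trans (card_dvd_of_le hc))) hp))
  refine exists_BB hF (s := (MulAut.conj g).toMonoidHom.comp s) ((MulAut.conj g).injective.comp hs) h ?_
  rw [MonoidHom.range_comp, HB, ← e, ← ES.map_conj_centralizer_singleton]
  exact map_mono hc

omit hF hs in
theorem hn_BB : ∃ K : Subgroup (BB r), Spor.IsoHN K := by
  obtain ⟨L, h1, ⟨e⟩, -⟩ := exists_HN
  have := Agent.S1701.result.1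
  exact exists_BB' (by rw [Agent.S1701.result.2]; norm_num) (s := L.subtype.comp e.symm.toMonoidHom)
    (L.subtype_injective.comp e.symm.injective) h (orderOf_qM exists_h9.1)
    (by rintro _ ⟨f, rfl⟩; exact (h1 (e.symm f).2).1) (p := 19) (by rw [Agent.S1701.result.2]; norm_num) (by norm_num)

omit hF hs in
theorem fi23_BB : ∃ K : Subgroup (BB r), Spor.IsoFi23 K := by
  let N := nodesM
  obtain ⟨ψ, e, -, k, -⟩ := M3.exists_psi (N.tn.cox.mono (S := Y 3 4 2) (by decide)) N.tn.spi
  have i := psi_inj (φ := MonoidHom.id _)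
    (fun e => absurd (N.nd .a (by decide) .b1 (by decide) (congrArg Subtype.val e)) (by decide)) e
  have e : N.t .f1 = qM (eW 0 (N.pt .f1)) := Subtype.ext ((N.blk _ (by decide)).trans (congrArg qV (eW_zero _).symm))
  have := Calc.Fi23.simple
  exact exists_BB' (by rw [Calc.Fi23.card]; norm_num) i h (orderOf_qM (short_eW 0 (N.pt .f1)))
    (by rintro _ ⟨f, rfl⟩; exact (e ▸ N.gp_eq_centralizer).le (gp_mono (by decide) (k f))) (p := 17)
    (by rw [Calc.Fi23.card]; norm_num) (by norm_num)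

end Cfsg.Lib.M4
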