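import Cfsg.Agent.Lib.M3.MCChk
import Cfsg.Agent.Lib.Mon.N0b
import Cfsg.Agent.Lib.Mon.Baby

/-! # Words in the stabilizers of the axes, moves along `tau` -/

set_option autoImplicit false

namespace Cfsg.Lib.M4

open Griess M3 Subgroup MulAction Cfsg.Lib.Calc Cfsg.Lib.F2
open Spor hiding tau
open Leech hiding vW
open Cfsg.Lib.Golay (gPt)

/-- a word in the generators of the stabilizer of `aT i`; the head acts first -/
noncomputable def wg (i : Fin 12) (L : List Bool) : CZ := L.foldr (fun b g => g * (gT i b).g) 1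
noncomputable def wal (i : Fin 12) (L : List Bool) : ℕ → ℕ :=
  List.rec (motive := fun _ => ℕ → ℕ) (fun x => x) (fun b _ ih x => forceN ((gT i b).al x) ih) L
noncomputable def wv (i : Fin 12) (L : List Bool) : ℕ → ℕ :=
  List.rec (motive := fun _ => ℕ → ℕ) (fun x => x) (fun b _ ih x => forceN (app 24 (gT i b).C x) ih) L
noncomputable def wm (i : Fin 12) (L : List Bool) : ℕ → ℕ :=
  List.rec (motive := fun _ => ℕ → ℕ) (fun x => x) (fun b _ ih x => forceN (mmul 24 (gT i b).C x) ih) L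

variable (i : Fin 12) (L : List Bool)

theorem wg_fix : (wg i L : Aut) • aT i = aT i := by
  induction L with
  | nil => exact one_smul _ _
  | cons b L ih => exact (mul_smul _ _ _).trans (by rw [(gT_fix i b).2]; exact ih)

theorem wg_conj (x : ℕ) : (wg i L : Aut) * qV (qN x) * (wg i L : Aut)⁻¹ = qV (qN (wal i L x)) := by
  induction L generalizing x with
  | nil => exact (show _ = qV (qN x) by simp [wg]).trans rfl
  | cons b L ih =>
    refine Eq.trans ?_ ((ih _).trans (congrArg (fun y => qV (qN y)) (forceN_eq ((gT i b).al x) (wal i L)).symm))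
    rw [← El.conj (gT_fix i b).1]
    simp [wg, mul_assoc]

theorem wg_code (v : L2) : code2 (rhoC (wg i L) • v) = wv i L (code2 v) := by
  induction L generalizing v with
  | nil => exact congrArg code2 (by simp [wg])
  | cons b L ih =>
    refine Eq.trans ?_ (forceN_eq (app 24 (gT i b).C (code2 v)) (wv i L)).symm
    rw [← El.lrep (gT_fix i b).1, ← ih]
    simp [wg, mul_smul]

theorem wg_lrep {g : Co1} {X : ℕ} (h : LRep 24 code2 g X) : LRep 24 code2 (rhoC (wg i L) * g) (wm i L X) := by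
  induction L generalizing g X with
  | nil => exact (show g = rhoC (wg i []) * g by simp [wg]) ▸ h
  | cons b L ih =>
    rw [show wm i (b :: L) X = _ from forceN_eq (mmul 24 (gT i b).C X) (wm i L)]
    simpa [wg, mul_assoc] using ih ((El.lrep (gT_fix i b).1).mul h)

theorem wg_mem {K : Subgroup Co1} (h : ∀ b, rhoC (gT i b).g ∈ K) : rhoC (wg i L) ∈ K := by
  induction L with
  | nil => simp [wg]
  | cons b L ih => simpa [wg] using mul_mem ih (h b)

theorem wv_one (b : Bool) (x : ℕ) : wv i [b] x = app 24 (gT i b).C x := forceN_eq _ _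

attribute [irreducible] wg wal wv wm

theorem ex_tau {q : Q} (h : pr Om q.c = 0) : ∃ c : CZ, (c : Aut) = tau * qV q * tau⁻¹ ∧ rhoC c = mo 1 q.d := by
  obtain ⟨s, d, δ, rfl⟩ := qe_surj q
  have h1 : (th d + δ) ⬝ᵥ 1 = 0 := by
    rw [add_dotProduct, th_dot_one, zero_add, dotProduct_comm]
    exact h
  have h2 : Ind (yq s d * bq (th d + δ)) 1 d := by
    simpa [bq] using (ind_yq s d).mul (ind_qV (qe 0 0 (th d + δ)))
  rw [show yq s d * bq (th d + δ) = tau * qV (qe s d δ) * tau⁻¹ by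
    rw [qV_qe, yq, ← tau_conj_bq h1]; conv_rhs => rw [tau_conj_bq h1]
    group] at h2
  exact ⟨⟨_, h2.1⟩, rfl, h2.2⟩

theorem edge_ex {a b : V} {e f : El} (he : e.ok = true) (hf : f.ok = true)
    (hv : Vr (tau • (e.g : Aut) • a) ((f.g : Aut) • b)) : ∃ g ∈ M1, g • a = b ∧
      (∀ x y s n i j, chkMv e f x y s n i j = true → Short (qN x) ∧ Short (qN y) ∧ g • ax (qN x) = ax (qN y)) ∧
      ∀ x, parN (e.al x >>> 12) = false → ∃ c : CZ, g * qV (qN x) * g⁻¹ = c ∧
        rhoC c = (rhoC f.g)⁻¹ * mo 1 (cdN (e.al x)) * rhoC f.g := by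
  obtain ⟨t, m, hv⟩ := hv
  refine ⟨(f.g : Aut)⁻¹ * (qV (qe t (m • Om) 0))⁻¹ * tau * e.g,
    mul_mem (mul_mem (CZ_le_M1 (mul_mem (inv_mem f.g.2) (inv_mem (qV_mem _)))) tau_mem_M1) (CZ_le_M1 e.g.2),
    by simp only [mul_smul, inv_smul_eq_iff, hv], fun x y s n i j hc => ?_, fun x hx => ?_⟩
  · simp only [chkMv, band_eq_true, blt_iff, beq_iff] at hc
    obtain ⟨⟨⟨h1, h2⟩, h3⟩, h4⟩ := hc
    have h5 := gPt_ne (h1.trans h2) h2 h1.ne
    have h6 := El.smul_ax he x
    have h7 := El.smul_ax hf y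
    refine ⟨(El.short he x).1 ?_, (El.short hf y).1 ?_, ?_⟩
    iterate 2 simp only [h3, h4, qN_zN, qN_cP _ (h1.trans h2) h2, short_zp_mul, short_eP _ h5]
    rw [h3, qN_zN, qN_cP _ (h1.trans h2) h2] at h6
    rw [h4, qN_zN, qN_cP _ (h1.trans h2) h2, z2_xor, ← tau_ax_P h5] at h7
    simp only [mul_smul, inv_smul_eq_iff]
    rw [h6, h7, tau_ax_P h5, qV_smul_ax, conj_eq]
    rcases z2_cases m with rfl | rfl <;> simp [eP, zp_zero, dotProduct_comm 1]
  · obtain ⟨c, h1, h2⟩ := ex_tau (q := qN (e.al x)) (by rw [pr_Om, hx, z2_false])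
    refine ⟨f.g⁻¹ * (⟨_, qV_mem (qe t (m • Om) 0)⟩⁻¹ * c * ⟨_, qV_mem (qe t (m • Om) 0)⟩) * f.g, ?_, ?_⟩
    · simp only [coe_mul, coe_inv, h1, ← El.conj he x, mul_inv_rev, inv_inv, mul_assoc]
    · simp only [rhoC.map_mul, rhoC.map_inv, h2, (rhoC_eq_one (g := ⟨_, qV_mem _⟩)).2 ⟨_, rfl⟩, inv_one, one_mul,
        mul_one]
      rfl

theorem mo_ne {c : Cd} {v : leechLattice} (hv : nm(v) < 64) {k l : Pt} (hk : c.1 k = 1) (hl : c.1 l = 0)
    (h1 : (v : Pt → ℤ) k ≠ 0) (h2 : (v : Pt → ℤ) l ≠ 0) : (mo 1 c : Co1) • (v : L2) ≠ v := fun h => by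
  have h3 : _ = _ * (v : Pt → ℤ) k := mo_apply 1 c v k
  have h4 : _ = _ * (v : Pt → ℤ) l := mo_apply 1 c v l
  rcases eq_or_neg_of_code (y := mo 1 c • v) hv (by rw [sqNorm_smul]; exact hv.le) (L2_eq_iff.1 h).symm with e | e <;>
    simp [e, hk, hl, sz] at h3 h4 <;> omega

theorem exists_hs {v w : leechLattice} (hv : nm(v) = 48) (hw : nm(w) = 32) (hd : dt(v, w) = -16) :
    Nonempty (↥(stabilizer Co1 (v : L2) ⊓ stabilizer Co1 (w : L2)) ≃* HS) := by
  obtain ⟨g, rfl, rfl⟩ := exists_smul_pair48 (y := leechU') (n := 11178) (by simp [co3_L]) hv hw hd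
  have h1 : stabilizer Co0 (g • leechV) ⊓ stabilizer Co0 (g • leechU') = hs.map (MulAut.conj g).toMonoidHom := by
    rw [stabilizer_smul_eq_stabilizer_map_conj, stabilizer_smul_eq_stabilizer_map_conj,
      ← map_inf _ _ _ (MulAut.conj g).injective]
  refine ⟨(MulEquiv.subgroupCongr ?_).trans ((mapCo1Equiv (stabilizer Co0 (g • leechV) ⊓ _)
    fun h => negOne_notMem_stabilizer (by omega) h.1).symm.trans ((MulEquiv.subgroupCongr h1).trans (((MulAut.conj g).subgroupMap hs).symm.trans hsEquiv)))⟩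
  refine le_antisymm (fun c hc => ?_) (by
    rintro _ ⟨k, hk, rfl⟩
    exact ⟨congrArg QuotientAddGroup.mk hk.1, congrArg QuotientAddGroup.mk hk.2⟩)
  obtain ⟨k, hk, rfl⟩ := (stabilizer_mk (by omega)).le hc.1
  exact ⟨k, ⟨hk, smul_eq_of_code hk (by omega) (by omega) (by omega) (L2_eq_iff.1 hc.2)⟩, rfl⟩

end Cfsg.Lib.M4
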